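import Groth.Agent.CplKaehler4.PSFrob
import Groth.Agent.CplKaehler4.Rank
import Groth.Agent.CplKaehler4.Gen
import Groth.Agent.SmoothingLib.GeomRegDiff

/-!
Dimensions of spaces of derivations over an F-finite field.
-/

set_option linter.style.haveILetI false
set_option maxHeartbeats 1000000

namespace Groth.Agent.CplKaehler4

open TensorProduct

universe u

/-- A derivation of a domain into a field over it extends to the fraction field. -/
theorem exists_derivation_fractionField (B F : Type u) [CommRing B] [Field F] [Algebra B F] [IsFractionRing B F]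
    (D : Derivation ℤ B F) : ∃ E : Derivation ℤ F F, ∀ b, E (algebraMap B F b) = D b := by
  haveI : Algebra.FormallyEtale B F := Algebra.FormallyEtale.of_isLocalization (nonZeroDivisors B)
  let e := KaehlerDifferential.tensorKaehlerEquivOfFormallyEtale ℤ B F
  refine ⟨((LinearMap.liftBaseChange F D.liftKaehlerDifferential).comp e.symm.toLinearMap).compDer
    (KaehlerDifferential.D ℤ F), fun b => ?_⟩
  have he : e ((1 : F) ⊗ₜ KaehlerDifferential.D ℤ B b) = KaehlerDifferential.D ℤ F (algebraMap B F b) := by
    simp [e, KaehlerDifferential.mapBaseChange_tmul]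
  show LinearMap.liftBaseChange F D.liftKaehlerDifferential (e.symm (KaehlerDifferential.D ℤ F (algebraMap B F b))) = D b
  rw [← he, e.symm_apply_apply, LinearMap.liftBaseChange_tmul, one_smul, Derivation.liftKaehlerDifferential_comp_D]

/-- The dimension of the derivations into an extension field is the dimension of the differentials. -/
theorem finrank_derivation (L F : Type u) [Field L] [Field F] [Algebra L F] [Module.Finite L (Ω[L⁄ℤ])] :
    Module.Finite F (Derivation ℤ L F) ∧ Module.finrank F (Derivation ℤ L F) = Module.finrank L (Ω[L⁄ℤ]) := by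
  let e₀ := KaehlerDifferential.linearMapEquivDerivation ℤ L (M := F)
  let e₁ : (Ω[L⁄ℤ] →ₗ[L] F) ≃ₗ[F] Derivation ℤ L F :=
    { e₀.toAddEquiv with map_smul' := fun c φ => rfl }
  let e₂ := (LinearMap.liftBaseChangeEquiv (R := L) (M := Ω[L⁄ℤ]) (N := F) F).symm.trans e₁
  exact ⟨Module.Finite.equiv e₂, by rw [← e₂.finrank_eq, Module.finrank_linearMap_self, Module.finrank_baseChange]⟩

/-- Elements on which every nonzero derivation is nonzero give spanning differentials. -/
theorem finite_kaehler_of_detect (L : Type u) [Field L] {ι : Type*} [Finite ι] (y : ι → L)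
    (h : ∀ D : Derivation ℤ L L, (∀ i, D (y i) = 0) → D = 0) : Module.Finite L (Ω[L⁄ℤ]) := by
  let W := Submodule.span L (Set.range fun i => KaehlerDifferential.D ℤ L (y i))
  refine ⟨Submodule.fg_def.2 ⟨Set.range fun i => KaehlerDifferential.D ℤ L (y i), Set.finite_range _, ?_⟩⟩
  show W = ⊤
  by_contra hne
  obtain ⟨z, hz⟩ : ∃ z, z ∉ W := by
    by_contra hall
    push Not at hall
    exact hne (eq_top_iff.2 fun z _ => hall z)
  obtain ⟨φ, hφz, hφW⟩ := Submodule.exists_dual_map_eq_bot_of_notMem hz inferInstance
  have hD : LinearMap.compDer φ (KaehlerDifferential.D ℤ L) = 0 := h _ fun i =>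
    (Submodule.mem_bot L).1 (hφW ▸ Submodule.mem_map_of_mem (Submodule.subset_span ⟨i, rfl⟩))
  refine hφz ?_
  have hz' : z ∈ Submodule.span L (Set.range (KaehlerDifferential.D ℤ L)) :=
    (KaehlerDifferential.span_range_derivation ℤ L).symm ▸ Submodule.mem_top
  clear hφz hz
  induction hz' using Submodule.span_induction with
  | mem w hw => obtain ⟨l, rfl⟩ := hw; exact DFunLike.congr_fun hD l
  | zero => exact map_zero φ
  | add a b _ _ ha hb => rw [map_add, ha, hb, add_zero]
  | smul c a _ ha => rw [map_smul, ha, smul_zero]

/-- Differentials of a finite extension of fields have the same dimension. -/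
theorem finrank_kaehler_int_of_finite (L E : Type u) [Field L] [Field E] [Algebra L E] [Module.Finite L E]
    [Module.Finite L (Ω[L⁄ℤ])] :
    Module.Finite E (Ω[E⁄ℤ]) ∧ Module.finrank E (Ω[E⁄ℤ]) = Module.finrank L (Ω[L⁄ℤ]) := by
  haveI : Algebra.EssFiniteType L E := inferInstance
  obtain ⟨hΩ, hH, heq⟩ := CartierEq4.finrank_kaehler_eq L E
  rw [show Algebra.trdeg L E = 0 from trdeg_eq_zero, Cardinal.zero_toNat, zero_add] at heq
  have hk : Module.finrank E (LinearMap.ker (KaehlerDifferential.mapBaseChange ℤ L E)) =
      Module.finrank E (Algebra.H1Cotangent L E) := CartierEq4.finrank_imperfection_int L E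
  let g := KaehlerDifferential.mapBaseChange ℤ L E
  let h := KaehlerDifferential.map ℤ L E E
  have hs : LinearMap.range h = ⊤ := LinearMap.range_eq_top.2 (KaehlerDifferential.map_surjective ℤ L E)
  have hex : LinearMap.ker h = LinearMap.range g :=
    (KaehlerDifferential.exact_mapBaseChange_map ℤ L E).linearMap_ker_eq
  haveI hfin : Module.Finite E (Ω[E⁄ℤ]) := by
    haveI := hΩ
    refine ⟨Submodule.fg_of_fg_map_of_fg_inf_ker h (IsNoetherian.noetherian _) ?_⟩
    rw [top_inf_eq, hex]
    exact (Submodule.fg_top _).1 (Module.Finite.range g).fg_top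
  refine ⟨hfin, ?_⟩
  have e1 := h.finrank_range_add_finrank_ker
  rw [hs, finrank_top, hex, heq] at e1
  have e2 := g.finrank_range_add_finrank_ker
  rw [hk, Module.finrank_baseChange] at e2
  omega

variable {k : Type u} [Field k] (p : ℕ) [ExpChar k p]

/-- Derivations of an F-finite field are determined on finitely many elements. -/
theorem finite_derivation_field (hp : p.Prime) [CharP k p] (hk : (frobenius k p).Finite) (F : Type u) [Field F] [Algebra k F] :
    Module.Finite F (Derivation ℤ k F) := by
  obtain ⟨m, b, hb⟩ := exists_frobenius_span p hk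
  let φ : Derivation ℤ k F →ₗ[F] (Fin m → F) :=
    { toFun := fun D s => D (b s), map_add' := fun D E => rfl, map_smul' := fun c D => rfl }
  refine Module.Finite.of_injective φ fun D E h => Derivation.ext fun c => ?_
  obtain ⟨x, rfl⟩ := hb c
  rw [map_sum, map_sum]
  refine Finset.sum_congr rfl fun s _ => ?_
  have h0 : ∀ (D' : Derivation ℤ k F) (y : k), D' (y ^ p) = 0 := fun D' y => by
    rw [D'.leibniz_pow, ← Nat.cast_smul_eq_nsmul k, CharP.cast_eq_zero k p, zero_smul]
  rw [D.leibniz, E.leibniz, h0, h0, show D (b s) = E (b s) from congrFun h s]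

/-- Derivations of the fraction field of power series over an F-finite field. -/
theorem finrank_derivation_fracPS (hp : p.Prime) [CharP k p] (hk : (frobenius k p).Finite) (d : ℕ)
    (L : Type u) [Field L] [Algebra (MvPowerSeries (Fin d) k) L] [IsFractionRing (MvPowerSeries (Fin d) k) L]
    (F : Type u) [Field F]
    [Algebra k F] [Algebra (MvPowerSeries (Fin d) k) F] [IsScalarTower k (MvPowerSeries (Fin d) k) F]
    [Algebra L F] [IsScalarTower (MvPowerSeries (Fin d) k) L F]
    [IsDomain (MvPowerSeries (Fin d) k)] :
    Module.Finite L (Ω[L⁄ℤ]) ∧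
    Module.finrank F (Derivation ℤ L F) ≤ d + Module.finrank F (Derivation ℤ k F) := by
  classical
  let R := MvPowerSeries (Fin d) k
  haveI : IsScalarTower ℤ R L := IsScalarTower.of_algebraMap_eq fun n => by simp
  have key : ∀ (M : Type u) [AddCommGroup M] [Module L M] (D : Derivation ℤ L M),
      (∀ c : k, D (algebraMap R L (algebraMap k R c)) = 0) → (∀ i, D (algebraMap R L (MvPowerSeries.X i)) = 0) → D = 0 := by
    intro M _ _ D hC hX
    letI : Module R M := Module.compHom M (algebraMap R L)
    haveI : IsScalarTower R L M := ⟨fun r l z => by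
      show (r • l) • z = algebraMap R L r • l • z
      rw [Algebra.smul_def, mul_smul]⟩
    have hR : ∀ f : R, D (algebraMap R L f) = 0 := fun f =>
      derivation_eq_zero_of_frobenius p hp hk (fun f => D (algebraMap R L f)) (fun a b => by rw [map_add, map_add])
        (fun a b => by rw [map_mul, D.leibniz, algebraMap_smul, algebraMap_smul]) hC hX f
    refine Derivation.ext fun z => ?_
    obtain ⟨x, y, hy, rfl⟩ := IsFractionRing.div_surjective (A := R) z
    have hy' : algebraMap R L y ≠ 0 := IsFractionRing.to_map_ne_zero_of_mem_nonZeroDivisors hy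
    have h1 := hR x
    rw [show algebraMap R L x = algebraMap R L y * (algebraMap R L x / algebraMap R L y) from (mul_div_cancel₀ _ hy').symm,
      D.leibniz, hR y, smul_zero, add_zero] at h1
    exact (smul_eq_zero.1 h1).resolve_left hy'
  constructor
  · obtain ⟨m, b, hb⟩ := exists_frobenius_span p hk
    refine finite_kaehler_of_detect L (Sum.elim (fun s => algebraMap R L (algebraMap k R (b s)))
      (fun i => algebraMap R L (MvPowerSeries.X i))) fun D hD => key L D (fun c => ?_) fun i => hD (.inr i)
    obtain ⟨x, rfl⟩ := hb c
    rw [map_sum, map_sum, map_sum]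
    refine Finset.sum_eq_zero fun s _ => ?_
    have hb0 : D (algebraMap R L (algebraMap k R (b s))) = 0 := hD (.inl s)
    rw [map_mul, map_mul, map_pow, map_pow, Derivation.leibniz, hb0, smul_zero, zero_add, Derivation.leibniz_pow,
      ← Nat.cast_smul_eq_nsmul L, show (p : L) = 0 by
        rw [← map_natCast ((algebraMap R L).comp (algebraMap k R)) p, CharP.cast_eq_zero k p, map_zero],
      zero_smul, smul_zero]
  · haveI := finite_derivation_field p hp hk F
    let φ : Derivation ℤ L F →ₗ[F] (Fin d → F) × Derivation ℤ k F :=
      { toFun := fun D => (fun i => D (algebraMap R L (MvPowerSeries.X i)), Derivation.mk'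
            (AddMonoidHom.toIntLinearMap (D.toLinearMap.toAddMonoidHom.comp ((algebraMap R L).comp (algebraMap k R)).toAddMonoidHom))
            fun a b => by
              show D (algebraMap R L (algebraMap k R (a * b))) = a • D _ + b • D _
              rw [map_mul, map_mul, D.leibniz, algebraMap_smul, algebraMap_smul, algebraMap_smul, algebraMap_smul]
              rfl)
        map_add' := fun D E => rfl
        map_smul' := fun c D => rfl }
    have hφ : Function.Injective φ := by
      rw [injective_iff_map_eq_zero]
      intro D hD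
      exact key F D (fun c => DFunLike.congr_fun (congrArg Prod.snd hD) c) fun i => congrFun (congrArg Prod.fst hD) i
    have := LinearMap.finrank_le_finrank_of_injective hφ
    rwa [Module.finrank_prod, Module.finrank_fin_fun] at this

end Groth.Agent.CplKaehler4
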