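import Groth.Agent.CplKaehler4.Domain
import Groth.Agent.RegLoc6.RegEtale
import Groth.Agent.RegLoc6.Basic
import Groth.Agent.RegFS6.NormalPS
import Groth.Agent.SmoothingLib.GeomRegDiff
import Mathlib.RingTheory.Unramified.LocalStructure

/-!
Unramified points on top-dimensional components over a power series ring are étale.
-/

set_option linter.style.haveILetI false
set_option maxHeartbeats 1000000

namespace Groth.Agent.CplKaehler4

open IsLocalRing TensorProduct

universe u

/-- An étale algebra over a geometrically regular algebra is geometrically regular. -/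
theorem geometricallyRegular_of_etale (k P C : Type u) [Field k] [CommRing P] [IsNoetherianRing P] [CommRing C]
    [Algebra k P] [Algebra P C] [Algebra k C] [IsScalarTower k P C] [Algebra.Etale P C]
    (h : CAlg.IsGeometricallyRegular k P) : CAlg.IsGeometricallyRegular k C := by
  intro k' _ _ hf
  haveI := h k' hf
  haveI : IsRegularRing (P ⊗[k] k') := IsRegularRing.of_ringEquiv (R := k' ⊗[k] P)
    (Algebra.TensorProduct.comm k k' P).toRingEquiv
  let R' := P ⊗[k] k'
  let C' := R' ⊗[P] C
  haveI : IsNoetherianRing C' := Algebra.FiniteType.isNoetherianRing R' C'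
  haveI : IsRegularRing C' := isRegularRing_iff.2 fun Q hQ => by
    haveI := hQ
    exact RegLoc6.regular_of_etale (A := R') Q (IsRegularRing.isRegularLocalRing_localization _)
  exact IsRegularRing.of_ringEquiv (R := C')
    ((Algebra.TensorProduct.comm P R' C).toRingEquiv.trans
      ((Algebra.TensorProduct.cancelBaseChange k P C C k').toRingEquiv.trans
        (Algebra.TensorProduct.comm k C k').toRingEquiv))

variable (k : Type u) [Field k] (P A : Type u) [CommRing P] [IsRegularRing P] [IsDomain P] [CommRing A]
  [Algebra k P] [Algebra k A] [Algebra P A] [IsScalarTower k P A] [Module.Finite P A]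

/-- An unramified point on a component dominating a regular base is étale, regular, and geometrically regular
if the base is. -/
theorem isEtaleAt_of_under_eq_bot (p q : Ideal A) [p.IsPrime] [q.IsPrime] (hqp : q ≤ p) (hq : q.under P = ⊥)
    [Algebra.IsUnramifiedAt P p] :
    Algebra.IsEtaleAt P p ∧ IsRegularLocalRing (Localization.AtPrime p) ∧
      (CAlg.IsGeometricallyRegular k P → CAlg.IsGeometricallyRegular k (Localization.AtPrime p)) := by
  haveI : Algebra.FiniteType P A := Module.Finite.finiteType A
  obtain ⟨f, hf, E, φ, hφ⟩ :=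
    Algebra.IsUnramifiedAt.exists_hasStandardEtaleSurjectionOn (R := P) p
  haveI : IsNoetherianRing E.Ring := Algebra.FiniteType.isNoetherianRing P E.Ring
  let Af := Localization.AtPrime p
  have hu : IsUnit (algebraMap A Af f) := IsLocalization.map_units Af (⟨f, hf⟩ : p.primeCompl)
  let ψ : Localization.Away f →ₐ[P] Af :=
    IsLocalization.liftAlgHom (M := Submonoid.powers f) (f := IsScalarTower.toAlgHom P A Af)
      (fun y => by obtain ⟨m, hm⟩ := y.2; rw [← hm, map_pow]; exact hu.pow m)
  have hψ : ∀ a : A, ψ (algebraMap A (Localization.Away f) a) = algebraMap A Af a :=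
    fun a => IsLocalization.lift_eq _ a
  let χ : E.Ring →ₐ[P] Af := ψ.comp φ
  have hχ : ∀ a : A, ∃ e, χ e = algebraMap A Af a := fun a => by
    obtain ⟨e, he⟩ := hφ (algebraMap A (Localization.Away f) a)
    exact ⟨e, by show ψ (φ e) = _; rw [he, hψ]⟩
  let M : Ideal E.Ring := (maximalIdeal Af).comap χ
  haveI : M.IsPrime := Ideal.comap_isPrime _ _
  let L := Localization.AtPrime M
  let Λ : L →ₐ[P] Af := IsLocalization.liftAlgHom (M := M.primeCompl) (f := χ) fun y =>
    not_not.1 fun h => y.2 h
  have hΛ : ∀ e : E.Ring, Λ (algebraMap E.Ring L e) = χ e := fun e => IsLocalization.lift_eq _ e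
  have hsurj : Function.Surjective Λ := by
    intro z
    obtain ⟨a, s, rfl⟩ := IsLocalization.exists_mk'_eq p.primeCompl z
    obtain ⟨e, he⟩ := hχ a
    obtain ⟨t, ht⟩ := hχ s
    have hus : IsUnit (χ t) := by rw [ht]; exact IsLocalization.map_units Af s
    refine ⟨IsLocalization.mk' L e (⟨t, fun h => h hus⟩ : M.primeCompl), ?_⟩
    rw [IsLocalization.eq_mk'_iff_mul_eq, ← he, ← ht, ← hΛ, ← hΛ, ← map_mul,
      IsLocalization.mk'_spec]
  haveI : IsRegularLocalRing L :=
    RegLoc6.regular_of_etale (A := P) M (IsRegularRing.isRegularLocalRing_localization _)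
  haveI : IsDomain L := RegLoc6.isDomain_of_isRegularLocalRing L
  let qA : Ideal Af := q.map (algebraMap A Af)
  have hd : Disjoint (p.primeCompl : Set A) q := Set.disjoint_left.2 fun x hx hxq => hx (hqp hxq)
  haveI : qA.IsPrime := IsLocalization.isPrime_of_isPrime_disjoint p.primeCompl _ _ ‹_› hd
  have hqA : qA.comap (algebraMap A Af) = q :=
    IsLocalization.comap_map_of_isPrime_disjoint p.primeCompl _ ‹_› hd
  let N : Ideal E.Ring := qA.comap χ
  haveI : N.IsPrime := Ideal.comap_isPrime _ _
  have hN : N.under P = ⊥ := by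
    rw [← hq]
    ext x
    show χ (algebraMap P E.Ring x) ∈ qA ↔ algebraMap P A x ∈ q
    rw [χ.commutes, IsScalarTower.algebraMap_apply P A Af, ← Ideal.mem_comap, hqA]
  have hmin : ∀ N' : Ideal E.Ring, N'.IsPrime → N' ≤ N → N' = N := fun N' hN' hle =>
    Algebra.QuasiFinite.eq_of_le_of_under_eq (R := P) _ _ hle
      (le_antisymm (Ideal.comap_mono hle) (hN.le.trans bot_le))
  have hinj : Function.Injective Λ := by
    let K : Ideal L := qA.comap Λ
    haveI : K.IsPrime := Ideal.comap_isPrime _ _
    have hK : K = ⊥ := by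
      have h0 : (⊥ : Ideal L).comap (algebraMap E.Ring L) = N := hmin _ (Ideal.comap_isPrime _ _) (by
        intro e he
        show χ e ∈ qA
        rw [← hΛ, show algebraMap E.Ring L e = 0 from he, map_zero]
        exact zero_mem _)
      have h1 : K.comap (algebraMap E.Ring L) = N := by
        ext e
        show Λ (algebraMap E.Ring L e) ∈ qA ↔ χ e ∈ qA
        rw [hΛ]
      refine (IsLocalization.map_comap M.primeCompl L K).symm.trans ?_
      rw [Ideal.under_def, h1, ← h0]
      exact IsLocalization.map_comap M.primeCompl L ⊥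
    rw [injective_iff_map_eq_zero]
    intro x hx
    have : x ∈ K := by show Λ x ∈ qA; rw [hx]; exact zero_mem _
    rwa [hK, Ideal.mem_bot] at this
  haveI : Algebra.FormallyEtale E.Ring L := Algebra.FormallyEtale.of_isLocalization M.primeCompl
  haveI : Algebra.FormallyEtale P L := Algebra.FormallyEtale.comp P E.Ring L
  let e : L ≃ₐ[P] Af := AlgEquiv.ofBijective Λ ⟨hinj, hsurj⟩
  refine ⟨Algebra.FormallyEtale.of_equiv e, IsRegularLocalRing.of_ringEquiv e.toRingEquiv, fun hgr => ?_⟩
  letI : Algebra k E.Ring := ((algebraMap P E.Ring).comp (algebraMap k P)).toAlgebra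
  haveI : IsScalarTower k P E.Ring := .of_algebraMap_eq' rfl
  have hE := geometricallyRegular_of_etale k P E.Ring hgr
  letI : Algebra E.Ring Af := χ.toRingHom.toAlgebra
  haveI : IsScalarTower k E.Ring Af := .of_algebraMap_eq fun c => by
    show algebraMap k Af c = χ (algebraMap P E.Ring (algebraMap k P c))
    rw [χ.commutes, ← IsScalarTower.algebraMap_apply k P Af]
  let e' : L ≃ₐ[E.Ring] Af := AlgEquiv.ofRingEquiv (f := e.toRingEquiv) fun x => hΛ x
  haveI : IsLocalization M.primeCompl Af := IsLocalization.isLocalization_of_algEquiv M.primeCompl e'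
  exact SmoothingLib.GeomDiff.isGeometricallyRegular_of_isLocalization hE M.primeCompl Af

end Groth.Agent.CplKaehler4

namespace Groth.Agent.CplKaehler4

open IsLocalRing

universe u

/-- A power series ring over a field is geometrically regular. -/
theorem geometricallyRegular_mvPowerSeries (k : Type u) [Field k] (n : ℕ) :
    CAlg.IsGeometricallyRegular k (MvPowerSeries (Fin n) k) := fun k' _ _ hf => by
  haveI := hf
  exact RegFS6.regular_tensor_mvPowerSeries k n ⊥ k'
    ((RingHom.injective_iff_ker_eq_bot _).1 (algebraMap k k').injective)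

/-- A power series ring over a field is regular. -/
theorem isRegularRing_mvPowerSeries (k : Type u) [Field k] (n : ℕ) : IsRegularRing (MvPowerSeries (Fin n) k) := by
  haveI : IsNoetherianRing (MvPowerSeries (Fin n) k) := by
    have := PSLib.isRegularLocalRing (K := k) (n := n)
    infer_instance
  exact FlatLoc6.isRegularRing_of_geometricallyRegular (geometricallyRegular_mvPowerSeries k n)

variable {k A : Type u} [Field k] [CommRing A] [IsLocalRing A] [IsNoetherianRing A] [Algebra k A]
  [Module.Finite k (ResidueField A)]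

/-- Over a power series ring in as many variables as the dimension of a component, the component dominates. -/
theorem under_eq_bot {n : ℕ} [Algebra (MvPowerSeries (Fin n) k) A] [Module.Finite (MvPowerSeries (Fin n) k) A]
    (q : Ideal A) [q.IsPrime] (hdim : ringKrullDim (A ⧸ q) = n) : q.under (MvPowerSeries (Fin n) k) = ⊥ := by
  haveI : IsDomain (MvPowerSeries (Fin n) k) := NoZeroDivisors.to_isDomain _
  let g := (Ideal.Quotient.mk q).comp (algebraMap (MvPowerSeries (Fin n) k) A)
  have hg : g.Finite := (RingHom.Finite.of_surjective _ Ideal.Quotient.mk_surjective).comp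
    (RingHom.finite_algebraMap.2 ‹_›)
  have hinj := CohenLib.injective_of_finite g hg hdim (PSLib.ringKrullDim_eq k n).le
  rw [(RingHom.injective_iff_ker_eq_bot g).1 hinj |>.symm, ← RingHom.comap_ker, Ideal.mk_ker]

variable [IsAdicComplete (maximalIdeal A) A]

/-- Generated by `dim` elements at a regular point, the completed differentials are free there. -/
theorem free_of_genAt (p q : Ideal A) [p.IsPrime] (hq : q ∈ minimalPrimes A) (hqp : q ≤ p) {n : ℕ}
    (hdim : ringKrullDim (A ⧸ q) = n) [IsRegularLocalRing (Localization.AtPrime p)]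
    (s : Fin n → AdicCompletion (maximalIdeal A) (Ω[A⁄k])) (hs : GenAt p s) :
    Module.Free (Localization.AtPrime p) (LocalizedModule p.primeCompl (AdicCompletion (maximalIdeal A) (Ω[A⁄k]))) ∧
      Module.finrank (Localization.AtPrime p)
        (LocalizedModule p.primeCompl (AdicCompletion (maximalIdeal A) (Ω[A⁄k]))) = n := by
  classical
  haveI : IsDomain (Localization.AtPrime p) := RegLoc6.isDomain_of_isRegularLocalRing _
  haveI := hq.1.1
  let Ap := Localization.AtPrime p
  let Om := AdicCompletion (maximalIdeal A) (Ω[A⁄k])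
  let v := fun i => LocalizedModule.mkLinearMap p.primeCompl Om (s i)
  have hspan := (genAt_iff_localized p s).1 hs
  have hli : LinearIndependent Ap v := by
    rw [Fintype.linearIndependent_iff]
    intro g hg j
    by_contra hj
    obtain ⟨⟨t, ht⟩, a, hat⟩ : ∃ (t : p.primeCompl) (a : Fin n → A), ∀ i, (t : A) • g i = algebraMap A Ap (a i) := by
      obtain ⟨t, ht⟩ := IsLocalization.exist_integer_multiples_of_finite p.primeCompl g
      exact ⟨t, fun i => (ht i).choose, fun i => (ht i).choose_spec.symm⟩
    have h1 : LocalizedModule.mkLinearMap p.primeCompl Om (∑ i, a i • s i) = 0 := by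
      rw [map_sum]
      have : t • ∑ i, g i • v i = 0 := by rw [hg, smul_zero]
      rw [Finset.smul_sum] at this
      refine Eq.trans (Finset.sum_congr rfl fun i _ => ?_) this
      rw [← smul_assoc, hat, map_smul, algebraMap_smul]
    obtain ⟨u, hu⟩ := (LocalizedModule.mk_eq (s := (1 : p.primeCompl)) (s' := (1 : p.primeCompl))).1
      (h1.trans (LocalizedModule.zero_mk 1).symm)
    simp only [one_smul, smul_zero] at hu
    have haq : a j ∉ q := fun h => hj (by
      have h0 : q ≤ (⊥ : Ideal Ap).comap (algebraMap A Ap) := by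
        refine hq.2 ⟨Ideal.comap_isPrime _ _, bot_le⟩ fun x hx => ?_
        obtain ⟨c, hc⟩ := (IsLocalization.map_eq_zero_iff p.primeCompl Ap x).1 ((Ideal.mem_bot).1 hx)
        exact (hq.1.1.mem_or_mem (hc ▸ q.zero_mem : (c : A) * x ∈ q)).resolve_left fun h => c.2 (hqp h)
      have h2 : (t : A) • g j = 0 := by
        rw [hat]
        exact (Ideal.mem_bot).1 (h0 h)
      rw [Algebra.smul_def] at h2
      exact (IsLocalization.map_units Ap (⟨t, ht⟩ : p.primeCompl)).mul_right_eq_zero.1 h2)
    obtain ⟨m, rfl⟩ : ∃ m, n = m + 1 := ⟨n - 1, by have := j.pos; omega⟩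
    have hgen : GenAt q (fun i => s (j.succAbove i)) := by
      intro y
      obtain ⟨c, hc, hy⟩ := hs y
      have hu' : (u : A) ∉ q := fun h => u.2 (hqp h)
      have hc' : c ∉ q := fun h => hc (hqp h)
      refine ⟨(u : A) * a j * c, fun h => by
        rcases hq.1.1.mem_or_mem h with h | h
        · rcases hq.1.1.mem_or_mem h with h | h
          · exact hu' h
          · exact haq h
        · exact hc' h, ?_⟩
      obtain ⟨b, hb⟩ := (Submodule.mem_span_range_iff_exists_fun A).1 hy
      rw [mul_smul, ← hb, Finset.smul_sum]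
      refine Submodule.sum_mem _ fun i _ => ?_
      rw [smul_comm]
      refine Submodule.smul_mem _ _ ?_
      rcases Fin.eq_self_or_eq_succAbove j i with rfl | ⟨l, rfl⟩
      · have hu2 : (u : A) • ∑ l, a l • s l = 0 := hu
        rw [Fin.sum_univ_succAbove _ i, smul_add, add_eq_zero_iff_eq_neg, ← mul_smul] at hu2
        rw [hu2]
        exact Submodule.neg_mem _ (Submodule.smul_mem _ _ (Submodule.sum_mem _ fun l _ =>
          Submodule.smul_mem _ _ (Submodule.subset_span ⟨l, rfl⟩)))
      · exact Submodule.smul_mem _ _ (Submodule.subset_span ⟨l, rfl⟩)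
    have := dim_quot_le_of_genAt k A q q le_rfl _ hgen
    rw [hdim, Nat.cast_le] at this
    omega
  let b := Module.Basis.mk hli hspan.ge
  exact ⟨Module.Free.of_basis b, by rw [Module.finrank_eq_card_basis b, Fintype.card_fin]⟩

end Groth.Agent.CplKaehler4
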