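import Groth.Agent.CplKaehler4.PS
import Mathlib.RingTheory.MvPowerSeries.Expand

/-!
Power series over an F-finite field in terms of p-th powers, and the resulting control of derivations.
-/

set_option linter.style.haveILetI false

namespace Groth.Agent.CplKaehler4

open MvPowerSeries

universe u

variable {k : Type u} [Field k] (p : ℕ) [ExpChar k p]

/-- Generators of a finite ring map. -/
theorem exists_span_of_finite {R S : Type u} [CommRing R] [CommRing S] (φ : R →+* S) (hφ : φ.Finite) :
    ∃ (m : ℕ) (b : Fin m → S), ∀ c : S, ∃ x : Fin m → R, ∑ s, φ (x s) * b s = c := by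
  letI := φ.toAlgebra
  haveI : Module.Finite R S := hφ
  obtain ⟨m, b, hb⟩ := Module.Finite.exists_fin (R := R) (M := S)
  exact ⟨m, b, fun c => (Submodule.mem_span_range_iff_exists_fun R).1 (hb.ge (Submodule.mem_top (x := c)))⟩

/-- An F-finite field is spanned by finitely many elements over its `p`-th powers. -/
theorem exists_frobenius_span (hk : (frobenius k p).Finite) :
    ∃ (m : ℕ) (b : Fin m → k), ∀ c : k, ∃ x : Fin m → k, ∑ s, x s ^ p * b s = c := by
  exact exists_span_of_finite (frobenius k p) hk

/-- Every power series is a combination of finitely many series with coefficients that are `p`-th powers. -/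
theorem exists_pow_decomposition (hp : p.Prime) {n m : ℕ} (b : Fin m → k)
    (hb : ∀ c : k, ∃ x : Fin m → k, ∑ s, x s ^ p * b s = c) (f : MvPowerSeries (Fin n) k) :
    ∃ g : Fin m × (Fin n → Fin p) → MvPowerSeries (Fin n) k,
      f = ∑ sa, monomial (Finsupp.equivFunOnFinite.symm fun i => (sa.2 i : ℕ)) (b sa.1) * g sa ^ p := by
  classical
  choose x hx using hb
  let α : (Fin n → Fin p) → (Fin n →₀ ℕ) := fun a => Finsupp.equivFunOnFinite.symm fun i => (a i : ℕ)
  refine ⟨fun sa β => x (coeff (p • β + α sa.2) f) sa.1, ?_⟩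
  ext d
  rw [map_sum]
  let a₀ : Fin n → Fin p := fun i => ⟨d i % p, Nat.mod_lt _ hp.pos⟩
  let β₀ : Fin n →₀ ℕ := Finsupp.equivFunOnFinite.symm fun i => d i / p
  have hle : α a₀ ≤ d := fun i => by simpa [α, a₀] using Nat.mod_le (d i) p
  have hsub : d - α a₀ = p • β₀ := by
    ext i
    simp only [α, a₀, β₀, Finsupp.coe_tsub, Pi.sub_apply, Finsupp.smul_apply, smul_eq_mul,
      Finsupp.coe_equivFunOnFinite_symm]
    have := Nat.mod_add_div (d i) p
    omega
  have hd : p • β₀ + α a₀ = d := by rw [← hsub]; exact tsub_add_cancel_of_le hle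
  have hterm : ∀ sa : Fin m × (Fin n → Fin p),
      coeff d (monomial (α sa.2) (b sa.1) * (show MvPowerSeries (Fin n) k from fun β => x (coeff (p • β + α sa.2) f) sa.1) ^ p) =
        if sa.2 = a₀ then b sa.1 * x (coeff d f) sa.1 ^ p else 0 := by
    intro sa
    rw [coeff_monomial_mul, ← map_frobenius_expand p hp.ne_zero]
    by_cases ha : sa.2 = a₀
    · rw [if_pos (ha ▸ hle), if_pos ha, coeff_map, ha, hsub, coeff_expand_smul p hp.ne_zero, frobenius_def]
      show b sa.1 * x (coeff (p • β₀ + α a₀) f) sa.1 ^ p = _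
      rw [hd]
    · rw [if_neg ha]
      split_ifs with hle'
      · obtain ⟨i, hi⟩ := Function.ne_iff.1 ha
        have : ¬ p ∣ (d - α sa.2) i := fun ⟨c, hc⟩ => hi (Fin.ext (by
          have h1 : d i - (sa.2 i : ℕ) = p * c := by simpa [α] using hc
          have h2 : (sa.2 i : ℕ) ≤ d i := by simpa [α] using hle' i
          show (sa.2 i : ℕ) = d i % p
          rw [show d i = (sa.2 i : ℕ) + p * c by omega, Nat.add_mul_mod_self_left, Nat.mod_eq_of_lt (sa.2 i).2]))
        rw [coeff_map, coeff_expand_of_not_dvd p hp.ne_zero _ this, map_zero, mul_zero]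
      · rfl
  rw [Finset.sum_congr rfl fun sa _ => hterm sa, Fintype.sum_prod_type]
  simp only [Finset.sum_ite_eq', Finset.mem_univ, if_true]
  exact (Finset.sum_congr rfl fun s _ => mul_comm _ _).trans (hx _) |>.symm

/-- A derivation of power series over an F-finite field that kills the constants and the variables vanishes. -/
theorem derivation_eq_zero_of_frobenius (hp : p.Prime) [CharP k p] (hk : (frobenius k p).Finite) {n : ℕ}
    {N : Type*} [AddCommGroup N] [Module (MvPowerSeries (Fin n) k) N]
    (D : MvPowerSeries (Fin n) k → N) (hadd : ∀ f g, D (f + g) = D f + D g)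
    (hmul : ∀ f g, D (f * g) = f • D g + g • D f) (hC : ∀ c, D (algebraMap k _ c) = 0) (hX : ∀ i, D (X i) = 0)
    (f : MvPowerSeries (Fin n) k) : D f = 0 := by
  classical
  obtain ⟨m, b, hb⟩ := exists_frobenius_span p hk
  obtain ⟨g, hg⟩ := exists_pow_decomposition p hp b hb f
  have hp0 : (p : MvPowerSeries (Fin n) k) = 0 := by
    rw [← map_natCast (algebraMap k (MvPowerSeries (Fin n) k)) p, CharP.cast_eq_zero k p, map_zero]
  have h1 : D 1 = 0 := by
    have := hmul 1 1
    rw [one_mul, one_smul, left_eq_add] at this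
    exact this
  have hpow : ∀ (x : MvPowerSeries (Fin n) k) (j : ℕ), D (x ^ j) = (j : MvPowerSeries (Fin n) k) • x ^ (j - 1) • D x := fun x j => by
    induction j with
    | zero => rw [pow_zero, h1, Nat.cast_zero, zero_smul]
    | succ j ih =>
      rw [pow_succ, hmul, ih, smul_smul, smul_smul, smul_smul, Nat.add_sub_cancel, ← add_smul]
      congr 1
      rcases Nat.eq_zero_or_pos j with rfl | hj
      · simp
      · obtain ⟨i, rfl⟩ : ∃ i, j = i + 1 := ⟨j - 1, by omega⟩
        simp only [Nat.add_sub_cancel, pow_succ]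
        push_cast
        ring
  rw [hg, show D (∑ sa, _) = _ from map_sum (AddMonoidHom.mk' D hadd) _ _]
  refine Finset.sum_eq_zero fun sa _ => ?_
  show D _ = 0
  have hm : ∀ (P : MvPolynomial (Fin n) k), D (P : MvPowerSeries (Fin n) k) = 0 := fun P => by
    induction P using MvPolynomial.induction_on with
    | C a => rw [MvPolynomial.coe_C]; exact hC a
    | add P Q hP hQ => rw [MvPolynomial.coe_add, hadd, hP, hQ, add_zero]
    | mul_X P i hP => rw [MvPolynomial.coe_mul, MvPolynomial.coe_X, hmul, hP, hX, smul_zero, smul_zero, add_zero]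
  have h1 := hm (MvPolynomial.monomial (Finsupp.equivFunOnFinite.symm fun i => (sa.2 i : ℕ)) (b sa.1))
  rw [MvPolynomial.coe_monomial] at h1
  rw [hmul, h1, smul_zero, add_zero, hpow, hp0, zero_smul, smul_zero]

end Groth.Agent.CplKaehler4
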