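import Mathlib

/-!
Systems of parameters outside a given non-maximal prime.
-/

namespace Groth.Agent.CplKaehler4

open IsLocalRing

universe u

variable {A : Type u} [CommRing A] [IsLocalRing A] [IsNoetherianRing A]

/-- Enough elements of the maximal ideal outside a given non-maximal prime generate an ideal of definition. -/
theorem exists_sop_avoid (p : Ideal A) [p.IsPrime] (hp : p ≠ maximalIdeal A) (m : ℕ) (hm : ringKrullDim A ≤ m) :
    ∃ x : Fin m → A, (∀ i, x i ∈ maximalIdeal A ∧ x i ∉ p) ∧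
      maximalIdeal A ≤ (Ideal.span (Set.range x)).radical := by
  classical
  have hco : ∀ Q : PrimeSpectrum A, Order.coheight Q ≤ m := fun Q => by
    have h := (Order.coheight_le_krullDim Q).trans hm
    exact_mod_cast h
  have hstep : ∀ i, i ≤ m → ∃ x : Fin i → A, (∀ j, x j ∈ maximalIdeal A ∧ x j ∉ p) ∧
      ∀ Q : PrimeSpectrum A, Ideal.span (Set.range x) ≤ Q.asIdeal → Q.asIdeal ≠ maximalIdeal A →
        Order.coheight Q + i ≤ m := by
    intro i
    induction i with
    | zero =>
      intro _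
      exact ⟨Fin.elim0, fun j => j.elim0, fun Q _ _ => by simpa using hco Q⟩
    | succ i ih =>
      intro hi
      obtain ⟨x, hx, hQ⟩ := ih (by omega)
      let J := Ideal.span (Set.range x)
      let bad : Finset (Ideal A) := (insert p
        (((Ideal.finite_minimalPrimes_of_isNoetherianRing A J).toFinset).filter (· ≠ maximalIdeal A)))
      have hbad : ∀ P ∈ bad, P.IsPrime ∧ P ≠ maximalIdeal A := fun P hP => by
        rcases Finset.mem_insert.1 hP with rfl | hP
        · exact ⟨inferInstance, hp⟩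
        · exact ⟨((Set.Finite.mem_toFinset _).1 (Finset.mem_filter.1 hP).1).1.1, (Finset.mem_filter.1 hP).2⟩
      obtain ⟨y, hy, hyb⟩ : ∃ y ∈ maximalIdeal A, ∀ P ∈ bad, y ∉ P := by
        by_contra hcon
        push Not at hcon
        have hsub : ((maximalIdeal A : Ideal A) : Set A) ⊆ ⋃ P ∈ bad, ((id P : Ideal A) : Set A) := fun y hy => by
          obtain ⟨P, hP, hyP⟩ := hcon y hy
          exact Set.mem_biUnion hP hyP
        obtain ⟨P, hP, hle⟩ := (Ideal.subset_union_prime ⊤ ⊤ (fun P hP _ _ => (hbad P hP).1)).1 hsub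
        exact (hbad P hP).2 ((maximalIdeal.isMaximal A).eq_of_le (hbad P hP).1.ne_top hle).symm
      refine ⟨Fin.snoc x y, fun j => ?_, fun Q hle hne => ?_⟩
      · refine Fin.lastCases ?_ (fun j => ?_) j
        · rw [Fin.snoc_last]; exact ⟨hy, hyb p (Finset.mem_insert_self _ _)⟩
        · rw [Fin.snoc_castSucc]; exact hx j
      · have hJQ : J ≤ Q.asIdeal := (Ideal.span_le.2 (Set.range_subset_iff.2 fun j =>
          hle (Ideal.subset_span ⟨j.castSucc, Fin.snoc_castSucc (α := fun _ => A) y x j⟩)))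
        have hyQ : y ∈ Q.asIdeal := hle (Ideal.subset_span ⟨Fin.last i, Fin.snoc_last (α := fun _ => A) y x⟩)
        obtain ⟨P, hP, hPQ⟩ := Ideal.exists_minimalPrimes_le hJQ
        have hPne : P ≠ maximalIdeal A := fun h =>
          hne (le_antisymm (le_maximalIdeal Q.isPrime.ne_top) (h ▸ hPQ))
        have hyP : y ∉ P := hyb P (Finset.mem_insert_of_mem
          (Finset.mem_filter.2 ⟨(Set.Finite.mem_toFinset _).2 hP, hPne⟩))
        let P' : PrimeSpectrum A := ⟨P, hP.1.1⟩
        have hlt : P' < Q := lt_of_le_of_ne hPQ fun h => hyP (show y ∈ P'.asIdeal from h ▸ hyQ)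
        calc Order.coheight Q + ((i + 1 : ℕ) : ℕ∞) = (Order.coheight Q + 1) + i := by push_cast; ring
          _ ≤ Order.coheight P' + i := by gcongr; exact Order.coheight_add_one_le hlt
          _ ≤ m := hQ P' hP.1.2 hPne
  obtain ⟨x, hx, hQ⟩ := hstep m le_rfl
  refine ⟨x, hx, ?_⟩
  rw [Ideal.radical_eq_sInf]
  refine le_sInf fun Q ⟨hle, hQp⟩ => ?_
  by_contra hcon
  have hne : Q ≠ maximalIdeal A := fun h => hcon h.ge
  let Q' : PrimeSpectrum A := ⟨Q, hQp⟩
  have hlt : Q' < (⟨maximalIdeal A, inferInstance⟩ : PrimeSpectrum A) :=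
    lt_of_le_of_ne (le_maximalIdeal hQp.ne_top) fun h => hne (congrArg PrimeSpectrum.asIdeal h)
  have h1 : (1 : ℕ∞) ≤ Order.coheight Q' := le_add_self.trans (Order.coheight_add_one_le hlt)
  have h2 : (1 : ℕ∞) + m ≤ (m : ℕ∞) := le_trans (by gcongr) (hQ Q' hle hne)
  exact absurd (by exact_mod_cast h2 : 1 + m ≤ m) (by omega)

end Groth.Agent.CplKaehler4
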