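import Groth.Agent.CplKaehler4.DerDim
import Groth.Agent.CplKaehler4.Etale
import Groth.Agent.LC.CompleteCatenary

/-!
Upper bound for the number of generators of the completed differentials at a geometrically regular point.
-/

set_option linter.style.haveILetI false
set_option maxHeartbeats 1000000

namespace Groth.Agent.CplKaehler4

open IsLocalRing TensorProduct

universe u

variable {k A : Type u} [Field k] [CommRing A] [IsLocalRing A] [IsNoetherianRing A] [Algebra k A]
  [IsAdicComplete (maximalIdeal A) A] [Module.Finite k (ResidueField A)]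
variable (P : Ideal A) [P.IsPrime]

local notation "Om" => AdicCompletion (maximalIdeal A) (Ω[A⁄k])

/-- Generators of the maximal ideal of a regular localisation come from the prime. -/
theorem exists_generators_at [IsRegularLocalRing (Localization.AtPrime P)] :
    ∃ (h : ℕ) (g : Fin h → A), (ringKrullDim (Localization.AtPrime P) = h) ∧ (∀ j, g j ∈ P) ∧
      ∀ x ∈ P, ∃ c ∉ P, c * x ∈ Ideal.span (Set.range g) := by
  classical
  let Ap := Localization.AtPrime P
  obtain ⟨s, hs, hspan⟩ := Submodule.FG.exists_span_finset_card_eq_spanFinrank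
    (IsNoetherian.noetherian (maximalIdeal Ap))
  choose a t hat using fun u : s => IsLocalization.exists_mk'_eq P.primeCompl (u : Ap)
  refine ⟨(maximalIdeal Ap).spanFinrank, fun j => a (s.equivFin.symm (Fin.cast hs.symm j)),
    IsRegularLocalRing.spanFinrank_maximalIdeal.symm, fun j => ?_, fun x hx => ?_⟩
  · have hu : ((s.equivFin.symm (Fin.cast hs.symm j) : s) : Ap) ∈ maximalIdeal Ap :=
      hspan.le (Submodule.subset_span (s.equivFin.symm (Fin.cast hs.symm j)).2)
    rw [← hat, IsLocalization.AtPrime.mk'_mem_maximal_iff Ap P] at hu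
    exact hu
  · have h1 : algebraMap A Ap x ∈ (Ideal.span (Set.range fun j => a (s.equivFin.symm (Fin.cast hs.symm j)))).map (algebraMap A Ap) := by
      have hxm : algebraMap A Ap x ∈ maximalIdeal Ap := (IsLocalization.AtPrime.to_map_mem_maximal_iff Ap P x).2 hx
      rw [← hspan] at hxm
      refine (Submodule.span_le.2 fun u hu => ?_) hxm
      rw [SetLike.mem_coe, show u = ((⟨u, hu⟩ : s) : Ap) from rfl, ← hat ⟨u, hu⟩, IsLocalization.mk'_eq_mul_mk'_one]
      refine Ideal.mul_mem_right _ _ (Ideal.mem_map_of_mem _ (Ideal.subset_span ⟨Fin.cast hs (s.equivFin ⟨u, hu⟩), ?_⟩))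
      simp
    rw [IsLocalization.mem_map_algebraMap_iff P.primeCompl] at h1
    obtain ⟨⟨⟨y, hy⟩, c⟩, hc⟩ := h1
    rw [← map_mul] at hc
    obtain ⟨e, he⟩ := (IsLocalization.eq_iff_exists P.primeCompl Ap).1 hc
    refine ⟨(e : A) * c, P.primeCompl.mul_mem e.2 c.2, ?_⟩
    rw [mul_assoc, mul_comm (c : A) x, he]
    exact Ideal.mul_mem_left _ _ hy

/-- A power series presentation of the quotient by a prime, lifted. -/
theorem exists_ps_lift :
    ∃ (d : ℕ) (ψ : MvPowerSeries (Fin d) k →ₐ[k] A), ringKrullDim (A ⧸ P) = d ∧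
      (∀ i, ψ (MvPowerSeries.X i) ∈ maximalIdeal A) ∧
      Function.Injective ((Ideal.Quotient.mk P).comp ψ.toRingHom) ∧
      ((Ideal.Quotient.mk P).comp ψ.toRingHom).Finite := by
  classical
  let B := A ⧸ P
  haveI : IsLocalRing B := .of_surjective' (Ideal.Quotient.mk P) Ideal.Quotient.mk_surjective
  haveI := isAdicComplete_quot P
  haveI : IsLocalHom (Ideal.Quotient.mk P) := .of_surjective _ Ideal.Quotient.mk_surjective
  haveI : Module.Finite k (ResidueField B) := by
    let g : ResidueField A →ₐ[k] ResidueField B :=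
      { ResidueField.map (Ideal.Quotient.mk P) with commutes' := fun c => rfl }
    refine Module.Finite.of_surjective g.toLinearMap fun z => ?_
    obtain ⟨x, rfl⟩ := residue_surjective z
    obtain ⟨a, rfl⟩ := Ideal.Quotient.mk_surjective x
    exact ⟨residue A a, rfl⟩
  obtain ⟨d, x, hx, hd, hrad⟩ := CohenLib.exists_fin_sop B
  obtain ⟨ψB, hψB, hfin, -⟩ := exists_algHom_finite k x hx hrad
  choose t ht using fun i => Ideal.Quotient.mk_surjective (x i)
  have htm : ∀ i, t i ∈ maximalIdeal A := fun i h =>
    hx i (ht i ▸ h.map (Ideal.Quotient.mk P))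
  obtain ⟨ψ, hψ⟩ := PSLib.exists_algHom (R := k) (maximalIdeal A) t htm
  have heq : (Ideal.Quotient.mkₐ k P).comp ψ = ψB := by
    refine (PSLib.algHom_ext (I := maximalIdeal B) ψB _ (fun i => by rw [hψB]; exact hx i) fun i => ?_).symm
    rw [hψB, AlgHom.comp_apply, hψ]
    exact (ht i).symm
  have hcomp : (Ideal.Quotient.mk P).comp ψ.toRingHom = ψB.toRingHom := congrArg AlgHom.toRingHom heq
  refine ⟨d, ψ, hd, fun i => by rw [hψ]; exact htm i, ?_, hcomp ▸ hfin⟩
  haveI : IsDomain (MvPowerSeries (Fin d) k) := NoZeroDivisors.to_isDomain _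
  rw [hcomp]
  exact CohenLib.injective_of_finite ψB.toRingHom hfin hd (PSLib.ringKrullDim_eq k d).le

variable {P} {h d : ℕ} (g : Fin h → A) (hgP : ∀ j, g j ∈ P)
  (hg : ∀ x ∈ P, ∃ c ∉ P, c * x ∈ Ideal.span (Set.range g))
  (ψ : MvPowerSeries (Fin d) k →ₐ[k] A) (hψm : ∀ i, ψ (MvPowerSeries.X i) ∈ maximalIdeal A)
  (hψi : Function.Injective ((Ideal.Quotient.mk P).comp ψ.toRingHom))
  (hψf : ((Ideal.Quotient.mk P).comp ψ.toRingHom).Finite)

include hgP hg hψm hψi hψf in
/-- In characteristic zero the completed differentials at `P` need at most `h + d` generators. -/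
theorem finrank_fibre_le_charZero [CharZero k] :
    Module.finrank P.ResidueField (P.ResidueField ⊗[A] Om) ≤ h + d := by
  classical
  haveI := finite_completion k A
  let F := P.ResidueField
  let V := F ⊗[A] Om
  let δ : A → Om := fun a => AdicCompletion.of (maximalIdeal A) (Ω[A⁄k]) (KaehlerDifferential.D k A a)
  have hδmul : ∀ a b, δ (a * b) = a • δ b + b • δ a := fun a b => by simp [δ, map_add]
  have hδadd : ∀ a b, δ (a + b) = δ a + δ b := fun a b => by simp [δ, map_add]
  let w : Fin h ⊕ Fin d → V := Sum.elim (fun j => (1 : F) ⊗ₜ δ (g j)) fun i => (1 : F) ⊗ₜ δ (ψ (MvPowerSeries.X i))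
  let W := Submodule.span F (Set.range w)
  have hsm : ∀ (a : A) (z : Om), ((1 : F) ⊗ₜ[A] (a • z) : V) = algebraMap A F a • ((1 : F) ⊗ₜ[A] z) := fun a z => by
    rw [algebraMap_smul, TensorProduct.tmul_smul]
  have hP0 : ∀ a ∈ P, algebraMap A F a = 0 := fun a ha => Ideal.algebraMap_residueField_eq_zero.2 ha
  let T : Set A := {a | ((1 : F) ⊗ₜ[A] δ a : V) ∈ W}
  have hTadd : ∀ a b, a ∈ T → b ∈ T → a + b ∈ T := fun a b ha hb => by
    show ((1 : F) ⊗ₜ[A] δ (a + b) : V) ∈ W
    rw [hδadd, TensorProduct.tmul_add]; exact W.add_mem ha hb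
  have hTmul : ∀ a b, a ∈ T → b ∈ T → a * b ∈ T := fun a b ha hb => by
    show ((1 : F) ⊗ₜ[A] δ (a * b) : V) ∈ W
    rw [hδmul, TensorProduct.tmul_add, hsm, hsm]; exact W.add_mem (W.smul_mem _ hb) (W.smul_mem _ ha)
  have hTP : ∀ a ∈ P, a ∈ T := fun a ha => by
    obtain ⟨c, hc, hca⟩ := hg a ha
    have h1 : c * a ∈ T := by
      generalize c * a = y₀ at hca ⊢
      induction hca using Submodule.span_induction with
      | mem y hy => obtain ⟨j, rfl⟩ := hy; exact Submodule.subset_span ⟨.inl j, rfl⟩
      | zero =>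
        show ((1 : F) ⊗ₜ[A] δ 0 : V) ∈ W
        simp [δ]
      | add y z _ _ hy hz => exact hTadd y z hy hz
      | smul r y hy' hy =>
        show ((1 : F) ⊗ₜ[A] δ (r * y) : V) ∈ W
        rw [hδmul, TensorProduct.tmul_add, hsm, hsm, hP0 y ((Ideal.span_le.2 (Set.range_subset_iff.2 hgP)) hy'),
          zero_smul, add_zero]
        exact W.smul_mem _ hy
    have h1' : ((1 : F) ⊗ₜ[A] δ (c * a) : V) ∈ W := h1
    rw [hδmul, TensorProduct.tmul_add, hsm, hsm, hP0 a ha, zero_smul, add_zero] at h1'
    exact (Submodule.smul_mem_iff W (fun h0 => hc (Ideal.algebraMap_residueField_eq_zero.1 h0))).1 h1'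
  have hTψ : ∀ f, ψ f ∈ T := fun f => by
    letI : Algebra (MvPowerSeries (Fin d) k) A := ψ.toRingHom.toAlgebra
    haveI : IsScalarTower k (MvPowerSeries (Fin d) k) A := IsScalarTower.of_algebraMap_eq fun c => (ψ.commutes c).symm
    haveI : IsHausdorff (PSLib.vars d k) Om := ⟨fun z hz => by
      refine IsHausdorff.haus (IsHausdorff.of_le_jacobson (maximalIdeal A) Om
        (IsLocalRing.maximalIdeal_le_jacobson _) : IsHausdorff (maximalIdeal A) Om) z fun N => ?_
      rw [SModEq.zero]
      have h1 := SModEq.zero.1 (hz N)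
      clear hz
      induction h1 using Submodule.smul_induction_on' with
      | smul r hr n _ =>
        refine Submodule.smul_mem_smul ?_ (Submodule.mem_top : n ∈ ⊤)
        exact PSLib.map_pow_le ψ hψm N (Ideal.mem_map_of_mem _ hr)
      | add x _ y _ hx hy => exact add_mem hx hy⟩
    let D : Derivation k (MvPowerSeries (Fin d) k) Om :=
      ((AdicCompletion.of (maximalIdeal A) (Ω[A⁄k])).compDer (KaehlerDifferential.D k A)).compAlgebraMap _
    have hf : δ (ψ f) = ∑ i, MvPowerSeries.pderiv k i f • D (MvPowerSeries.X i) := derivation_eq_sum D f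
    show ((1 : F) ⊗ₜ[A] δ (ψ f) : V) ∈ W
    rw [hf, TensorProduct.tmul_sum]
    refine W.sum_mem fun i _ => ?_
    rw [← algebraMap_smul A]
    show ((1 : F) ⊗ₜ[A] (ψ (MvPowerSeries.pderiv k i f) • δ (ψ (MvPowerSeries.X i))) : V) ∈ W
    rw [hsm]
    exact W.smul_mem _ (Submodule.subset_span ⟨.inr i, rfl⟩)
  have hall : ∀ a, a ∈ T := by
    intro a
    let R := MvPowerSeries (Fin d) k
    haveI : IsDomain R := NoZeroDivisors.to_isDomain _
    have hex : ∃ q : Polynomial R, q ≠ 0 ∧ Polynomial.eval₂ ψ.toRingHom a q ∈ P := by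
      letI := ((Ideal.Quotient.mk P).comp ψ.toRingHom).toAlgebra
      haveI : Module.Finite R (A ⧸ P) := hψf
      obtain ⟨q, hq, hq0⟩ := Algebra.IsIntegral.isIntegral (R := R) (Ideal.Quotient.mk P a)
      refine ⟨q, hq.ne_zero, Ideal.Quotient.eq_zero_iff_mem.1 ?_⟩
      rw [Polynomial.hom_eval₂]
      exact hq0
    let N := Nat.find (p := fun m => ∃ q : Polynomial R, q ≠ 0 ∧ Polynomial.eval₂ ψ.toRingHom a q ∈ P ∧ q.natDegree = m)
      (by obtain ⟨q, h1, h2⟩ := hex; exact ⟨_, q, h1, h2, rfl⟩)
    obtain ⟨q, hq0, hqP, hqN⟩ : ∃ q : Polynomial R, q ≠ 0 ∧ Polynomial.eval₂ ψ.toRingHom a q ∈ P ∧ q.natDegree = N :=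
      Nat.find_spec (p := fun m => ∃ q : Polynomial R, q ≠ 0 ∧ Polynomial.eval₂ ψ.toRingHom a q ∈ P ∧ q.natDegree = m) _
    have hder : Polynomial.eval₂ ψ.toRingHom a (Polynomial.derivative q) ∉ P := by
      intro hd'
      by_cases hdq : Polynomial.derivative q = 0
      · haveI : CharZero R := charZero_of_injective_algebraMap (algebraMap k R).injective
        haveI : IsAddTorsionFree R := inferInstance
        have hdeg : q.natDegree = 0 := Polynomial.natDegree_eq_zero_of_derivative_eq_zero hdq
        rw [Polynomial.eq_C_of_natDegree_eq_zero hdeg, Polynomial.eval₂_C] at hqP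
        refine hq0 ?_
        have : q.coeff 0 = 0 := hψi (by
          rw [map_zero, RingHom.comp_apply]
          exact Ideal.Quotient.eq_zero_iff_mem.2 hqP)
        rw [Polynomial.eq_C_of_natDegree_eq_zero hdeg, this, map_zero]
      · have hdeg : q.natDegree ≠ 0 := fun h0 => hdq (by
          rw [Polynomial.eq_C_of_natDegree_eq_zero h0, Polynomial.derivative_C])
        exact Nat.find_min (p := fun m => ∃ q : Polynomial R, q ≠ 0 ∧ Polynomial.eval₂ ψ.toRingHom a q ∈ P ∧ q.natDegree = m) _
          (hqN ▸ Polynomial.natDegree_derivative_lt hdeg) ⟨_, hdq, hd', rfl⟩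
    have key : ∀ r : Polynomial R, ((1 : F) ⊗ₜ[A] δ (Polynomial.eval₂ ψ.toRingHom a r) : V) -
        algebraMap A F (Polynomial.eval₂ ψ.toRingHom a (Polynomial.derivative r)) • ((1 : F) ⊗ₜ[A] δ a) ∈ W := by
      intro r
      induction r using Polynomial.induction_on' with
      | add r s hr hs =>
        rw [Polynomial.eval₂_add, Polynomial.derivative_add, Polynomial.eval₂_add, hδadd, TensorProduct.tmul_add,
          map_add, add_smul, add_sub_add_comm]
        exact W.add_mem hr hs
      | monomial j c =>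
        rw [Polynomial.eval₂_monomial, Polynomial.derivative_monomial, Polynomial.eval₂_monomial, hδmul]
        have hpow : δ (a ^ j) = ((j : A) * a ^ (j - 1)) • δ a := by
          show AdicCompletion.of _ _ (KaehlerDifferential.D k A (a ^ j)) = _
          rw [Derivation.leibniz_pow, map_nsmul, map_smul, ← smul_assoc, nsmul_eq_mul]
        rw [hpow, TensorProduct.tmul_add, hsm, hsm, hsm, smul_smul, ← map_mul, map_mul ψ.toRingHom, map_natCast,
          mul_assoc (ψ.toRingHom c), add_sub_cancel_left]
        exact W.smul_mem _ (hTψ c)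
    have h1 := key q
    have h2 : ((1 : F) ⊗ₜ[A] δ (Polynomial.eval₂ ψ.toRingHom a q) : V) ∈ W := hTP _ hqP
    have h3 := W.sub_mem h2 h1
    rw [sub_sub_cancel] at h3
    exact (Submodule.smul_mem_iff W (fun h0 => hder (Ideal.algebraMap_residueField_eq_zero.1 h0))).1 h3
  have htop : W = ⊤ := by
    refine eq_top_iff.2 fun z hz => ?_
    clear hz
    induction z using TensorProduct.induction_on with
    | zero => exact zero_mem _
    | add a b ha hb => exact add_mem ha hb
    | tmul c y =>
      rw [← mul_one c, ← smul_eq_mul, ← TensorProduct.smul_tmul']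
      refine W.smul_mem _ ?_
      have hy : y ∈ Submodule.span A (Set.range δ) := (span_d k A).symm ▸ Submodule.mem_top
      induction hy using Submodule.span_induction with
      | mem y hy => obtain ⟨a, rfl⟩ := hy; exact hall a
      | zero => rw [TensorProduct.tmul_zero]; exact zero_mem _
      | add y z _ _ hy hz => rw [TensorProduct.tmul_add]; exact add_mem hy hz
      | smul r y _ hy => rw [hsm]; exact W.smul_mem _ hy
  have h1 := finrank_range_le_card (R := F) w
  rw [Set.finrank, show Submodule.span F (Set.range w) = ⊤ from htop, finrank_top, Fintype.card_sum,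
    Fintype.card_fin, Fintype.card_fin] at h1
  exact h1

include hgP hg hψi hψf in
/-- Over an F-finite field the completed differentials at a geometrically regular point need at most `h + d`
generators. -/
theorem finrank_fibre_le_charP (p : ℕ) [Fact p.Prime] [CharP k p] [ExpChar k p] (hk : (frobenius k p).Finite)
    [IsRegularLocalRing (Localization.AtPrime P)] (hgr : CAlg.IsGeometricallyRegular k (Localization.AtPrime P)) :
    Module.finrank P.ResidueField (P.ResidueField ⊗[A] Om) ≤ h + d := by
  classical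
  have hp : p.Prime := Fact.out
  haveI := finite_completion k A
  let F := P.ResidueField
  let Ap := Localization.AtPrime P
  letI : Algebra ℤ F := Ring.toIntAlgebra F
  letI : Algebra ℤ Ap := Ring.toIntAlgebra Ap
  haveI : IsScalarTower ℤ A F := IsScalarTower.of_algebraMap_eq fun n => by simp
  haveI : IsScalarTower ℤ A Ap := IsScalarTower.of_algebraMap_eq fun n => by simp
  let R := MvPowerSeries (Fin d) k
  haveI : IsDomain R := NoZeroDivisors.to_isDomain _
  letI : Algebra R (A ⧸ P) := ((Ideal.Quotient.mk P).comp ψ.toRingHom).toAlgebra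
  haveI : Module.Finite R (A ⧸ P) := hψf
  letI : Algebra R F := ((algebraMap (A ⧸ P) F).comp (algebraMap R (A ⧸ P))).toAlgebra
  haveI : IsScalarTower R (A ⧸ P) F := IsScalarTower.of_algebraMap_eq fun x => rfl
  haveI : IsScalarTower k R F := IsScalarTower.of_algebraMap_eq fun c => by
    show algebraMap k F c = algebraMap (A ⧸ P) F (Ideal.Quotient.mk P (ψ (algebraMap k R c)))
    rw [ψ.commutes]
    exact (IsScalarTower.algebraMap_apply k (A ⧸ P) F c).trans rfl
  haveI : FaithfulSMul R F := (faithfulSMul_iff_algebraMap_injective R F).2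
    ((IsFractionRing.injective (A ⧸ P) F).comp hψi)
  let L := FractionRing R
  letI : Algebra L F := FractionRing.liftAlgebra R F
  haveI : Module.Finite L F := finite_fractionField R (A ⧸ P) L F
  obtain ⟨hΩ, hLd⟩ := finrank_derivation_fracPS p hp hk d L F
  haveI := hΩ
  haveI := finite_derivation_field p hp hk F
  obtain ⟨hΩF, hFeq⟩ := finrank_kaehler_int_of_finite L F
  haveI := hΩF
  obtain ⟨hDF, hDFeq⟩ := finrank_derivation F F
  haveI := hDF
  obtain ⟨hDL, hDLeq⟩ := finrank_derivation L F
  let Φ₂ : Derivation ℤ A F →ₗ[F] (Fin h → F) :=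
    { toFun := fun D j => D (g j), map_add' := fun D E => rfl, map_smul' := fun c D => rfl }
  let res : Derivation ℤ F F →ₗ[F] Derivation ℤ A F :=
    { toFun := fun E => E.compAlgebraMap A, map_add' := fun D E => rfl, map_smul' := fun c D => rfl }
  have hker : LinearMap.ker Φ₂ ≤ LinearMap.range res := by
    intro D hD
    have hD0 : ∀ j, D (g j) = 0 := fun j => congrFun (LinearMap.mem_ker.1 hD) j
    have hDP : ∀ x ∈ P, D x = 0 := fun x hx => by
      obtain ⟨c, hc, hcx⟩ := hg x hx
      have h0 : ∀ y ∈ Ideal.span (Set.range g), D y = 0 := fun y hy => by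
        induction hy using Submodule.span_induction with
        | mem y hy => obtain ⟨j, rfl⟩ := hy; exact hD0 j
        | zero => exact map_zero D
        | add y z _ _ hy hz => rw [map_add, hy, hz, add_zero]
        | smul r y hy' hy =>
          rw [smul_eq_mul, D.leibniz, hy, smul_zero, zero_add, Algebra.smul_def,
            Ideal.algebraMap_residueField_eq_zero.2 ((Ideal.span_le.2 (Set.range_subset_iff.2 hgP)) hy'), zero_mul]
      have h1 := h0 _ hcx
      rw [D.leibniz, Algebra.smul_def, Algebra.smul_def, Ideal.algebraMap_residueField_eq_zero.2 hx, zero_mul,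
        add_zero] at h1
      exact (mul_eq_zero.1 h1).resolve_left fun h0 => hc (Ideal.algebraMap_residueField_eq_zero.1 h0)
    let D₀ : A ⧸ P → F := fun b => D (Ideal.Quotient.mk_surjective b).choose
    have hD₀ : ∀ a, D₀ (Ideal.Quotient.mk P a) = D a := fun a => by
      have := hDP _ (Ideal.Quotient.eq.1 (Ideal.Quotient.mk_surjective (Ideal.Quotient.mk P a)).choose_spec)
      rwa [map_sub, sub_eq_zero] at this
    let DB : Derivation ℤ (A ⧸ P) F := Derivation.mk'
      (AddMonoidHom.mk' D₀ (fun a b => by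
        obtain ⟨a, rfl⟩ := Ideal.Quotient.mk_surjective a
        obtain ⟨b, rfl⟩ := Ideal.Quotient.mk_surjective b
        rw [← map_add, hD₀, hD₀, hD₀, map_add])).toIntLinearMap
      fun a b => by
        obtain ⟨a, rfl⟩ := Ideal.Quotient.mk_surjective a
        obtain ⟨b, rfl⟩ := Ideal.Quotient.mk_surjective b
        show D₀ _ = (Ideal.Quotient.mk P a) • D₀ _ + (Ideal.Quotient.mk P b) • D₀ _
        rw [← map_mul, hD₀, hD₀, hD₀, D.leibniz, Algebra.smul_def, Algebra.smul_def, Algebra.smul_def, Algebra.smul_def]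
        rfl
    obtain ⟨E, hE⟩ := exists_derivation_fractionField (A ⧸ P) F DB
    exact ⟨E, Derivation.ext fun a => ((hE (Ideal.Quotient.mk P a)).trans (hD₀ a) : E (algebraMap A F a) = D a)⟩
  haveI hkerfin : Module.Finite F (LinearMap.ker Φ₂) :=
    Module.Finite.of_injective (Submodule.inclusion hker) (Submodule.inclusion_injective hker)
  haveI hA : Module.Finite F (Derivation ℤ A F) := by
    refine ⟨Submodule.fg_of_fg_map_of_fg_inf_ker Φ₂ (IsNoetherian.noetherian _) ?_⟩
    rw [top_inf_eq]
    exact (Submodule.fg_top _).1 hkerfin.fg_top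
  have hdimA : Module.finrank F (Derivation ℤ A F) ≤ h + d + Module.finrank F (Derivation ℤ k F) := by
    have e1 := Φ₂.finrank_range_add_finrank_ker
    have e2 : Module.finrank F (LinearMap.range Φ₂) ≤ h :=
      (Submodule.finrank_le _).trans (le_of_eq (Module.finrank_fin_fun F))
    have e3 : Module.finrank F (LinearMap.ker Φ₂) ≤ Module.finrank F (Derivation ℤ F F) :=
      (Submodule.finrank_mono hker).trans (LinearMap.finrank_range_le res)
    omega
  let Φ₁ : Derivation ℤ A F →ₗ[F] Derivation ℤ k F :=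
    { toFun := fun D => D.compAlgebraMap k, map_add' := fun D E => rfl, map_smul' := fun c D => rfl }
  haveI : CharP Ap p := charP_of_injective_algebraMap (algebraMap k Ap).injective p
  have hsurj : Function.Surjective Φ₁ := fun δ => by
    obtain ⟨D, hD⟩ := SmoothingLib.GeomDiff.exists_derivation_extend p hgr
      (fun x hx => (residue_eq_zero_iff x).2 hx) δ
    exact ⟨D.compAlgebraMap A, Derivation.ext fun c => (congrArg D (IsScalarTower.algebraMap_apply k A Ap c).symm).trans (hD c)⟩
  let V := F ⊗[A] Om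
  let δ₀ : A → V := fun a => (1 : F) ⊗ₜ AdicCompletion.of (maximalIdeal A) (Ω[A⁄k]) (KaehlerDifferential.D k A a)
  have hmul : ∀ (φ : Module.Dual F V) a b, φ (δ₀ (a * b)) = a • φ (δ₀ b) + b • φ (δ₀ a) := fun φ a b => by
    have : δ₀ (a * b) = algebraMap A F a • δ₀ b + algebraMap A F b • δ₀ a := by
      simp [δ₀, map_add, TensorProduct.tmul_add, algebraMap_smul, TensorProduct.tmul_smul]
    rw [this, map_add, map_smul, map_smul]
    simp [Algebra.smul_def]
  let Θ : Module.Dual F V →ₗ[F] LinearMap.ker Φ₁ :=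
    { toFun := fun φ => ⟨Derivation.mk'
        (AddMonoidHom.mk' (fun a => φ (δ₀ a)) (fun a b => by simp [δ₀, map_add, TensorProduct.tmul_add])).toIntLinearMap
        (hmul φ), LinearMap.mem_ker.2 (Derivation.ext fun c => by
          show φ (δ₀ (algebraMap k A c)) = 0
          simp [δ₀])⟩
      map_add' := fun φ φ' => rfl
      map_smul' := fun c φ => rfl }
  have hΘ : Function.Injective Θ := by
    rw [injective_iff_map_eq_zero]
    intro φ hφ
    have h0 : ∀ a, φ (δ₀ a) = 0 := fun a => DFunLike.congr_fun (congrArg Subtype.val hφ) a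
    refine LinearMap.ext fun z => ?_
    induction z using TensorProduct.induction_on with
    | zero => rw [map_zero, map_zero]
    | add a b ha hb => rw [map_add, map_add, ha, hb]
    | tmul c y =>
      rw [← mul_one c, ← smul_eq_mul, ← TensorProduct.smul_tmul', map_smul, map_smul]
      congr 1
      have hy : y ∈ Submodule.span A (Set.range fun a : A => AdicCompletion.of (maximalIdeal A) (Ω[A⁄k]) (KaehlerDifferential.D k A a)) :=
        (span_d k A).symm ▸ Submodule.mem_top
      induction hy using Submodule.span_induction with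
      | mem y hy => obtain ⟨a, rfl⟩ := hy; exact h0 a
      | zero => rw [TensorProduct.tmul_zero, map_zero, map_zero]
      | add y z _ _ hy hz => rw [TensorProduct.tmul_add, map_add, map_add, hy, hz]
      | smul r y _ hy =>
        rw [TensorProduct.tmul_smul, ← algebraMap_smul F r, map_smul, map_smul, hy]
  have e4 := Φ₁.finrank_range_add_finrank_ker
  rw [LinearMap.range_eq_top.2 hsurj, finrank_top] at e4
  have e5 := LinearMap.finrank_le_finrank_of_injective hΘ
  rw [Subspace.dual_finrank_eq] at e5
  show Module.finrank F V ≤ h + d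
  omega

end Groth.Agent.CplKaehler4
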